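import Cfsg.Agent.H86.TI.ThreeMcL

/-!
# S4908, row COVER of `McL`: the columns of the elements of order 1 and 11 over a faithful linear character (helper32)

* `cols` : `χ(V) = i + j (-1 + √-11) / 2`, `∑ i² = 6`, `∑ j² = 2`, `∑ i j = 1`, `∑ d i = ∑ d j = 0`,
  `11 ∣ d - i - 5 j`, `3 ∣ d`;
* `num_one`, `num_zero` : not all degrees are in the list `B1`, resp. `B0`.
-/

set_option autoImplicit false
set_option linter.unusedSectionVars false

open Subgroup Cfsg
open scoped ComplexConjugate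

namespace Cfsg.Agent.H32.S8

open Cfsg.Agent.H407.TI Cfsg.Agent.Characters.Core Cfsg.Agent.H86.TI

universe u v

section num

variable {ι : Type u}

/-- the two columns -/
structure Cols (X : Finset ι) (d : ι → ℕ) (i j : ι → ℤ) : Prop where
  three : ∀ x ∈ X, 3 ∣ d x
  cong : ∀ x ∈ X, (11 : ℤ) ∣ d x - i x - 5 * j x
  ii : ∑ x ∈ X, i x * i x = 6
  jj : ∑ x ∈ X, j x * j x = 2
  ij : ∑ x ∈ X, i x * j x = 1
  di : ∑ x ∈ X, (d x : ℤ) * i x = 0
  dj : ∑ x ∈ X, (d x : ℤ) * j x = 0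

variable {X : Finset ι} {d : ι → ℕ} {i j : ι → ℤ}

theorem Cols.bi (h : Cols X d i j) {x : ι} (hx : x ∈ X) : -2 ≤ i x ∧ i x ≤ 2 := by
  have h1 : i x * i x ≤ ∑ x ∈ X, i x * i x := Finset.single_le_sum (fun y _ => mul_self_nonneg (i y)) hx
  rw [h.ii] at h1
  constructor <;> nlinarith

theorem Cols.bj (h : Cols X d i j) {x : ι} (hx : x ∈ X) : -1 ≤ j x ∧ j x ≤ 1 := by
  have h1 : j x * j x ≤ ∑ x ∈ X, j x * j x := Finset.single_le_sum (fun y _ => mul_self_nonneg (j y)) hx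
  rw [h.jj] at h1
  constructor <;> nlinarith

/-- bad degrees for `i = 1` -/
def B1 : List ℕ := [84, 1500, 1584, 1701, 1848, 2673, 3465, 5346, 6930, 42, 750, 792, 924]

/-- bad degrees for `i = 0` -/
def B0 : List ℕ := [231, 252, 4500, 4752, 5103, 5544, 8019, 8250, 10395, 16038, 16500, 20790, 126, 2250, 2376, 2772,
  4125]

theorem num_one (h : Cols X d i j) (hb : ∀ x ∈ X, d x ∈ B1) : False := by
  have key : ∀ x ∈ X, (4 : ℤ) ∣ i x * i x + 2 * (j x * j x) + 3 * (i x * j x) := by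
    intro x hx
    have h1 := h.bi hx
    have h2 := h.bj hx
    have h3 := h.cong x hx
    have h4 := hb x hx
    have h5 : ∀ e ∈ B1, ∀ a ∈ Finset.Icc (-2 : ℤ) 2, ∀ b ∈ Finset.Icc (-1 : ℤ) 1, (11 : ℤ) ∣ (e : ℤ) - a - 5 * b →
        (4 : ℤ) ∣ a * a + 2 * (b * b) + 3 * (a * b) := by decide
    exact h5 (d x) h4 (i x) (Finset.mem_Icc.2 h1) (j x) (Finset.mem_Icc.2 h2) h3
  have h6 := Finset.dvd_sum key
  rw [Finset.sum_add_distrib, Finset.sum_add_distrib, ← Finset.mul_sum, ← Finset.mul_sum, h.ii, h.jj, h.ij] at h6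
  omega

/-- the types for `i = 0` -/
def tp : Fin 8 → ℤ × ℤ × ℤ :=
  ![(0, 0, 0), (-1, 0, 252), (1, 0, 4500), (-1, 0, 5103), (0, 1, 126), (-1, -1, 126), (0, -1, 2250), (1, 1, 2250)]

theorem tp_spec : ∀ e ∈ B0, ∀ a ∈ Finset.Icc (-2 : ℤ) 2, ∀ b ∈ Finset.Icc (-1 : ℤ) 1, (11 : ℤ) ∣ (e : ℤ) - a - 5 * b →
    ∃ k : Fin 8, a = (tp k).1 ∧ b = (tp k).2.1 ∧ ((e : ℤ) * a = (tp k).2.2 * a) ∧ (e : ℤ) * b = (tp k).2.2 * b := by
  decide

theorem num_zero (h : Cols X d i j) (hb : ∀ x ∈ X, d x ∈ B0) : False := by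
  classical
  have key : ∀ x : ι, ∃ k : Fin 8, x ∈ X → i x = (tp k).1 ∧ j x = (tp k).2.1 ∧
      ((d x : ℤ) * i x = (tp k).2.2 * i x) ∧ (d x : ℤ) * j x = (tp k).2.2 * j x := by
    intro x
    by_cases hx : x ∈ X
    · obtain ⟨k, hk⟩ := tp_spec (d x) (hb x hx) (i x) (Finset.mem_Icc.2 (h.bi hx)) (j x) (Finset.mem_Icc.2 (h.bj hx))
        (h.cong x hx)
      exact ⟨k, fun _ => hk⟩
    · exact ⟨0, fun h => absurd h hx⟩
  choose k hk using key
  have cnt : ∀ (f : ι → ℤ) (F : Fin 8 → ℤ), (∀ x ∈ X, f x = F (k x)) →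
      ∑ x ∈ X, f x = ∑ b : Fin 8, ((X.filter fun x => k x = b).card : ℤ) * F b := by
    intro f F hf
    rw [Finset.sum_congr rfl hf, ← Finset.sum_fiberwise X k]
    refine Finset.sum_congr rfl fun b _ => ?_
    rw [Finset.sum_congr rfl fun x hx => by rw [(Finset.mem_filter.1 hx).2], Finset.sum_const, nsmul_eq_mul]
  have e1 := cnt (fun x => i x * i x) (fun b => (tp b).1 * (tp b).1) fun x hx => by rw [(hk x hx).1]
  have e2 := cnt (fun x => j x * j x) (fun b => (tp b).2.1 * (tp b).2.1) fun x hx => by rw [(hk x hx).2.1]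
  have e3 := cnt (fun x => i x * j x) (fun b => (tp b).1 * (tp b).2.1) fun x hx => by
    rw [(hk x hx).1, (hk x hx).2.1]
  have e4 := cnt (fun x => (d x : ℤ) * i x) (fun b => (tp b).2.2 * (tp b).1) fun x hx => by
    show (d x : ℤ) * i x = _
    rw [(hk x hx).2.2.1, (hk x hx).1]
  have e5 := cnt (fun x => (d x : ℤ) * j x) (fun b => (tp b).2.2 * (tp b).2.1) fun x hx => by
    show (d x : ℤ) * j x = _
    rw [(hk x hx).2.2.2, (hk x hx).2.1]
  rw [h.ii] at e1
  rw [h.jj] at e2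
  rw [h.ij] at e3
  rw [h.di] at e4
  rw [h.dj] at e5
  simp only [Fin.sum_univ_succ, Fin.sum_univ_zero, tp] at e1 e2 e3 e4 e5
  simp at e1 e2 e3 e4 e5
  generalize (X.filter fun x => k x = 1).card = c1 at *
  generalize (X.filter fun x => k x = 2).card = c2 at *
  generalize (X.filter fun x => k x = 3).card = c3 at *
  generalize (X.filter fun x => k x = 4).card = c4 at *
  generalize (X.filter fun x => k x = 5).card = c5 at *
  generalize (X.filter fun x => k x = 6).card = c6 at *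
  generalize (X.filter fun x => k x = 7).card = c7 at *
  clear hk cnt hb h
  have h5 : (c5 = 0 ∧ c7 = 1) ∨ (c5 = 1 ∧ c7 = 0) := by omega
  rcases h5 with ⟨rfl, rfl⟩ | ⟨rfl, rfl⟩
  · have h6 : c3 ≤ 5 := by omega
    have h7 : c1 ≤ 5 := by omega
    interval_cases c3 <;> interval_cases c1 <;> omega
  · have h6 : c3 ≤ 5 := by omega
    have h7 : c1 ≤ 5 := by omega
    interval_cases c3 <;> interval_cases c1 <;> omega

end num

section cols

theorem sep_del {A B : ℤ} (h : (A : ℂ) + B * del = 0) : A = 0 ∧ B = 0 := by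
  have h1 := congrArg Complex.im h
  simp only [del, Complex.add_im, Complex.mul_im, Complex.intCast_re, Complex.intCast_im, Complex.zero_im, zero_mul,
    zero_add, add_zero] at h1
  have h11 : 0 < Real.sqrt 11 := Real.sqrt_pos.2 (by norm_num)
  have hB : (B : ℝ) = 0 := by
    rcases mul_eq_zero.1 h1 with h2 | h2
    · exact h2
    · exfalso; linarith
  have hB' : B = 0 := by exact_mod_cast hB
  rw [hB', Int.cast_zero, zero_mul, add_zero] at h
  exact ⟨by exact_mod_cast h, hB'⟩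

theorem conj_del : conj del = -1 - del := by
  apply Complex.ext
  · simp only [del, Complex.conj_re, Complex.sub_re, Complex.neg_re, Complex.one_re]
    norm_num
  · simp only [del, Complex.conj_im, Complex.sub_im, Complex.neg_im, Complex.one_im]
    ring

variable {E : Type u} [Group E] {Z : Subgroup E} {G : Type v} [Group G] {π : E →* G} {L : Loc G}

theorem three_dvd [Finite E] (h : Ext Z π) (hperf : commutator E = ⊤) {lam : Z →* ℂˣ} (hl : lam ≠ 1) {χ : E → ℂ}
    (hχ : IsIrrCharacter E χ) (ho : Over Z lam χ) : 3 ∣ charDegree χ := by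
  have h12 : ∃ z : Z, lam z ≠ 1 := by
    by_contra hno
    push Not at hno
    exact hl (MonoidHom.ext fun z => by rw [hno z, MonoidHom.one_apply])
  obtain ⟨z, hz⟩ := h12
  have h13 := pow_degree hperf hχ h.cen ho z
  have h14 : lam z ^ charDegree χ = 1 := by
    apply Units.ext
    push_cast
    exact h13
  have h15 : lam z ^ 3 = 1 := by
    rw [← map_pow]
    have : z ^ 3 = 1 := Subtype.ext (h.cube z.2)
    rw [this, map_one]
  have h16 : orderOf (lam z) = 3 := by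
    have := Fact.mk Nat.prime_three
    exact orderOf_eq_prime h15 hz
  rw [← h16]
  exact orderOf_dvd_of_pow_eq_one h14

/-- **the columns of the elements of order 1 and 11** -/
theorem cols [Finite E] [Fintype (IrrCharacter E)] (e : LocE π L) (h : Ext Z π) (hperf : commutator E = ⊤)
    {lam : Z →* ℂˣ} (hl : lam ≠ 1) [DecidablePred fun χ : IrrCharacter E => Over Z lam (χ : E → ℂ)] :
    ∃ i j : IrrCharacter E → ℤ, Cols (Finset.univ.filter fun χ : IrrCharacter E => Over Z lam (χ : E → ℂ))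
      (fun χ => charDegree (χ : E → ℂ)) i j := by
  have hd : ∀ χ : IrrCharacter E, (χ : E → ℂ) 1 = ((charDegree (χ : E → ℂ) : ℤ) : ℂ) := fun χ => by
    rw [H669.Basic.charDegree_eq χ.2]; push_cast; rfl
  have H : ∀ χ : IrrCharacter E, ∃ i j : ℤ, (χ : E → ℂ) e.V = i + j * del ∧
      (11 : ℤ) ∣ (charDegree (χ : E → ℂ) : ℤ) - i - 5 * j := fun χ =>
    Cfsg.Agent.H243.TI.eleven del_sq (isIrr_isCharacter χ.2) e.V11 e.VV (hd χ)
  choose i j hV hc using H
  refine ⟨i, j, ?_⟩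
  set X := Finset.univ.filter fun χ : IrrCharacter E => Over Z lam (χ : E → ℂ) with hX
  have mem : ∀ χ, χ ∈ X → Over Z lam (χ : E → ℂ) := fun χ hχ => (Finset.mem_filter.1 hχ).2
  have e15 : e.fam 15 = e.V := rfl
  have e16 : e.fam 16 = e.V⁻¹ := rfl
  have e0 : e.fam 0 = 1 := rfl
  have hcj : ∀ χ : IrrCharacter E, conj ((χ : E → ℂ) e.V⁻¹) = i χ + j χ * del := fun χ => by
    rw [isCharacter_apply_inv (isIrr_isCharacter χ.2), Complex.conj_conj, hV]
  -- the norm
  have n1 := e.col h lam 15 15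
  rw [if_pos rfl, e15, ← hX] at n1
  have a1 : ∑ χ ∈ X, (i χ * i χ - i χ * j χ + 3 * (j χ * j χ)) = 11 := by
    have h5 : ((∑ χ ∈ X, (i χ * i χ - i χ * j χ + 3 * (j χ * j χ)) : ℤ) : ℂ) = ((11 : ℤ) : ℂ) := by
      have h6 : ((11 : ℤ) : ℂ) = ((nrm 15 : ℕ) : ℂ) := by
        have : nrm 15 = 11 := rfl
        rw [this]; norm_num
      rw [h6, ← n1]
      push_cast
      refine Finset.sum_congr rfl fun χ _ => ?_
      rw [hV χ, map_add, map_mul, conj_del, map_intCast, map_intCast]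
      linear_combination ((j χ : ℂ) * j χ) * del_sq
    exact_mod_cast h5
  have n2 := e.col h lam 15 16
  rw [if_neg (by decide), e15, e16, ← hX] at n2
  have a2 := sep_del (A := ∑ χ ∈ X, (i χ * i χ - 3 * (j χ * j χ))) (B := ∑ χ ∈ X, (2 * (i χ * j χ) - j χ * j χ)) (by
    rw [← n2]
    push_cast
    rw [Finset.sum_mul, ← Finset.sum_add_distrib]
    refine Finset.sum_congr rfl fun χ _ => ?_
    rw [hcj χ, hV χ]
    linear_combination (-(j χ : ℂ) * j χ) * del_sq)
  have n3 := e.col h lam 0 16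
  rw [if_neg (by decide), e0, e16, ← hX] at n3
  have a3 := sep_del (A := ∑ χ ∈ X, (charDegree (χ : E → ℂ) : ℤ) * i χ)
    (B := ∑ χ ∈ X, (charDegree (χ : E → ℂ) : ℤ) * j χ) (by
    rw [← n3]
    push_cast
    rw [Finset.sum_mul, ← Finset.sum_add_distrib]
    refine Finset.sum_congr rfl fun χ _ => ?_
    rw [hcj χ, hd χ]
    push_cast
    ring)
  simp only [Finset.sum_add_distrib, Finset.sum_sub_distrib, ← Finset.mul_sum] at a1 a2
  obtain ⟨b1, b2⟩ := a2
  refine ⟨fun χ hχ => three_dvd h hperf hl χ.2 (mem χ hχ), fun χ _ => hc χ, ?_, ?_, ?_, a3.1, a3.2⟩ <;> omega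

end cols

end Cfsg.Agent.H32.S8
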