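import Cfsg.Agent.H32.S8.McLCov
import Cfsg.Agent.H517.S8.McLDeg
import Cfsg.Agent.H109.S8.AutDeg
import Cfsg.Agent.H109.S8.CovCore
import Cfsg.Agent.H529.S8.Cov
import Cfsg.Agent.S2073
import Cfsg.Agent.H498.SporOut

/-!
# S4908: the row COVER of `McL` (helper32)

* `index_inn` : `|Out McL| = 2`; `center_eq_bot`;
* `deg_sub` : a superset of the degrees of `McL` and `Aut McL`;
* `cover` : the row COVER, prime 3.
-/

set_option autoImplicit false

open Subgroup Cfsg

namespace Cfsg.Agent.H32.S8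

open Cfsg.Agent.H407.TI Cfsg.Agent.Characters.Core Cfsg.Agent.H86.TI Cfsg.Agent.H704.S8 Cfsg.Agent.H529.S8
open Cfsg.Agent.H517.S8

universe u v

section deg

variable {X : Type v} [Group X]

theorem index_inn (hX : Spor.IsoMcL X) : (MulAut.conj : X →* MulAut X).range.index = 2 := by
  obtain ⟨e⟩ := hX
  rw [H498.SporOut.index_congr e]
  exact S2073.result

theorem center_eq_bot [Finite X] (hX : Spor.IsoMcL X) : Subgroup.center X = ⊥ := by
  have hcard := McLDeg.card_McL hX
  have hs : IsSimpleGroup X := (Cfsg.Agent.TypeM.FactsMcL.facts hX).2.1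
  have hn : (Subgroup.center X).Normal := inferInstance
  rcases hn.eq_bot_or_eq_top with h | h
  · exact h
  · exfalso
    have hcomm : ∀ a b : X, a * b = b * a := fun a b => by
      have : b ∈ Subgroup.center X := by rw [h]; trivial
      exact Subgroup.mem_center_iff.1 this a
    let _ : CommGroup X := { (inferInstance : Group X) with mul_comm := hcomm }
    have h1 : (Nat.card X).Prime := IsSimpleGroup.prime_card
    rw [hcard] at h1
    norm_num at h1

/-- a superset of the degrees -/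
def T : List ℕ := McLDeg.degs ++ [1540, 1792, 7040, 16038, 16500, 19712, 20790]

theorem mem_T : ∀ n ∈ McLDeg.degs, n ∈ T := by decide

theorem mem_T' : ∀ n ∈ ([770, 896, 3520, 8019, 8250, 9856, 10395] : List ℕ), 2 * n ∈ T := by decide

/-- **a superset of the degrees** -/
theorem deg_sub [Finite X] (hX : Spor.IsoMcL X) {D : Set ℕ} (hD : Deg 2 X D) : ∀ d ∈ D, d ∈ T := by
  intro d hd
  rcases hD with rfl | ⟨-, rfl⟩
  · exact mem_T d ((McLDeg.mem_iff hX d).1 hd)
  · rcases Cfsg.Agent.H109.S8.deg_aut (center_eq_bot hX) (index_inn hX) hd with h | ⟨χ, χ', f, h1, h2, h3, rfl⟩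
    · exact mem_T d ((McLDeg.mem_iff hX d).1 h)
    · have h4 : charDegree (χ : X → ℂ) = f := by
        have := H669.Basic.charDegree_eq χ.2
        rw [h2] at this
        exact_mod_cast this.symm
      have h5 : charDegree (χ' : X → ℂ) = f := by
        have := H669.Basic.charDegree_eq χ'.2
        rw [h3] at this
        exact_mod_cast this.symm
      have h6 := McLDeg.two_of_degree hX h1 (h4.trans h5.symm)
      rw [h4] at h6
      exact mem_T' f h6

end deg

theorem chk0 : ∀ t ∈ T, (3 ∣ t → t ∈ B0) ∧ (6 ∣ t → t / 2 ∈ B0) := by decide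

theorem chk1 : ∀ t ∈ T, (9 ∣ t → t / 3 ∈ B1) ∧ (18 ∣ t → t / 6 ∈ B1) := by decide

theorem mem_B0 {d : ℕ} (h3 : 3 ∣ d) (h : d * 3 ^ 0 ∈ T ∨ 2 * (d * 3 ^ 0) ∈ T) : d ∈ B0 := by
  rw [pow_zero, mul_one] at h
  rcases h with h | h
  · exact (chk0 _ h).1 h3
  · have h1 := (chk0 _ h).2 (by omega)
    rwa [Nat.mul_div_cancel_left _ (by norm_num)] at h1

theorem mem_B1 {d : ℕ} (h3 : 3 ∣ d) (h : d * 3 ^ 1 ∈ T ∨ 2 * (d * 3 ^ 1) ∈ T) : d ∈ B1 := by
  rw [pow_one] at h
  rcases h with h | h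
  · have h1 := (chk1 _ h).1 (by omega)
    rwa [Nat.mul_div_cancel _ (by norm_num)] at h1
  · have h1 := (chk1 _ h).2 (by omega)
    rwa [show 2 * (d * 3) / 6 = d by omega] at h1

/-- **the row COVER of `McL`, prime 3** -/
theorem cover {X : Type v} [Group X] [Finite X] (hX : Spor.IsoMcL X) (D : Set ℕ) (hD : Deg 2 X D) :
    CoverAt.{u} 3 2 D X := by
  classical
  intro N _ _ V _ hV hc hp hq i hi
  have hN : Spor.IsoMcL (N ⧸ V) := by
    obtain ⟨f⟩ := hq
    obtain ⟨g⟩ := hX
    exact ⟨f.trans g⟩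
  obtain ⟨π, h⟩ := exists_ext V hc hV hN
  obtain ⟨L⟩ := exists_loc
  obtain ⟨e⟩ := exists_locE h L
  obtain ⟨l, v, hv⟩ := Cfsg.Agent.H109.S8.exists_lin_ne V (by
    rintro rfl
    rw [Subgroup.card_bot] at hV
    omega) hc
  have hl : l ≠ 1 := fun h1 => hv (by rw [h1]; rfl)
  have := finite_irr (G := N)
  have := Fintype.ofFinite (IrrCharacter N)
  obtain ⟨a, b, hC⟩ := cols e h hp hl
  rw [McLDeg.card_classes hX] at hi
  have hi' : i = 0 ∨ i = 1 := by
    by_contra hcon
    have h1 : 2 ≤ i := by omega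
    have h2 : 3 ^ (2 * 2) ≤ 3 ^ (2 * i) := Nat.pow_le_pow_right (by norm_num) (by omega)
    norm_num at h2 hi
    omega
  by_contra hcon
  push Not at hcon
  have key : ∀ χ ∈ Finset.univ.filter (fun χ : IrrCharacter N => Over V l (χ : N → ℂ)),
      charDegree (χ : N → ℂ) * 3 ^ i ∈ T ∨ 2 * (charDegree (χ : N → ℂ) * 3 ^ i) ∈ T := by
    intro χ hχ
    have ho : Over V l (χ : N → ℂ) := (Finset.mem_filter.1 hχ).2
    have h1 := hcon χ (charDegree (χ : N → ℂ)) χ.2 ⟨v, v.2, fun h2 => hv (by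
      have h3 := ho v 1
      rw [mul_one, h2] at h3
      have h5 := mul_right_cancel₀ (isIrr_apply_one_ne_zero χ.2) ((one_mul _).trans h3)
      exact Units.ext h5.symm)⟩ (H669.Basic.charDegree_eq χ.2)
    by_cases h2 : charDegree (χ : N → ℂ) * 3 ^ i ∈ D
    · exact Or.inl (deg_sub hX hD _ h2)
    · exact Or.inr (deg_sub hX hD _ (h1 h2).1)
  rcases hi' with rfl | rfl
  · exact num_zero hC fun χ hχ => mem_B0 (hC.three χ hχ) (key χ hχ)
  · exact num_one hC fun χ hχ => mem_B1 (hC.three χ hχ) (key χ hχ)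

end Cfsg.Agent.H32.S8
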